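import Cfsg.Agent.H619.OZ.BAbs
import Cfsg.Agent.H715.Mon.Exact
import Cfsg.Agent.H954.DR.CentB
import Cfsg.Agent.H713.Spor.B
import Cfsg.Agent.S3331

/-!
# S4842: the row of the Baby Monster (helper619)
-/

set_option autoImplicit false
set_option maxRecDepth 100000

open Subgroup Cfsg

namespace Cfsg.Agent.H619.OZ.B

universe u

theorem sThree : Cfsg.Agent.H715.Mon.Grp.SThree.{0} := fun _ _ _ X hX hC => S3331.result X hX hC

/-- `z u` for an involution `u` and `z` of odd prime order `r` commuting with it -/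
theorem two_of {G : Type u} [Group G] [Finite G] {r : ℕ} (hr : r.Prime) (hr2 : r ≠ 2) {u : G} (hu : orderOf u = 2)
    (hd : r ∣ Nat.card (centralizer ({u} : Set G))) :
    ∃ z : G, orderOf z = r ∧ orderOf (z * u) = r * 2 := by
  have : Fact r.Prime := ⟨hr⟩
  obtain ⟨z, hz⟩ := exists_prime_orderOf_dvd_card' (G := centralizer ({u} : Set G)) r hd
  have hz' : orderOf (z : G) = r := by rw [Subgroup.orderOf_coe, hz]
  refine ⟨z, hz', ?_⟩
  have hc : Commute (z : G) u := mem_centralizer_singleton_iff.1 z.2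
  rw [hc.orderOf_mul_eq_mul_orderOf_of_coprime, hz', hu]
  rw [hz', hu]
  exact (Nat.coprime_primes hr Nat.prime_two).2 hr2

theorem orderOf_two_of_card {G : Type u} [Group G] [Finite G] {N : ℕ} (hN : Nat.card G = N) {t : G} {c : ℕ}
    (h2 : t * t = 1) (hc : Nat.card (centralizer ({t} : Set G)) = c) (hne : c ≠ N) : orderOf t = 2 := by
  refine orderOf_eq_prime (by rw [pow_two, h2]) ?_
  rintro rfl
  have h6 : centralizer ({1} : Set G) = ⊤ := by
    rw [eq_top_iff]
    intro x _
    rw [mem_centralizer_singleton_iff, mul_one, one_mul]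
  rw [h6, card_top, hN] at hc
  exact hne hc.symm

/-- a transposition -/
theorem exists_tr : ∃ t : Spor.BabyMonster, orderOf t = 2 ∧
    Nat.card (centralizer ({t} : Set Spor.BabyMonster)) = 306129918735099415756800 := by
  have := CTwoTab.BInst.finite_B
  obtain ⟨K, _, _, _, t, X₀, σ, -, ht, hc⟩ := CTwoTab.BInst.exists_sec
  refine ⟨t, ?_, hc⟩
  refine CTwoTab.BInst.elim ?_
  intro K iF iT hK hF i1 i2 i3 i4 q y h π f₁ f₂ f₃ f₄ M₁ hq h10 DK Fc hz hcz hcd hL hc5 big hq5 hcard Bs hr
  have h5 : orderOf (q (y 5)) = 2 :=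
    orderOf_two_of_card H713.Spor.B.card_b (by rw [← map_mul, h.sq 5 (by norm_num) (by norm_num), map_one]) hcard
      (by norm_num)
  obtain ⟨g, hg⟩ := isConj_iff.1 (ht.trans hq5.symm)
  rw [← h5, ← hg]
  exact (MulEquiv.orderOf_eq (MulAut.conj g) t).symm

theorem facts {S : Type u} [Group S] [Finite S] [IsSimpleGroup S] (h : Spor.IsoB S) : Facts S := by
  have hN : Nat.card S = NB := NotCT.Orders.b h
  have ex : ∀ p : ℕ, p.Prime → p ∣ NB → ∃ z : S, orderOf z = p := by
    intro p hp hd
    have : Fact p.Prime := ⟨hp⟩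
    exact exists_prime_orderOf_dvd_card' p (by rw [hN]; exact hd)
  refine ⟨?_, ?_, ?_, ?_⟩
  · obtain ⟨z, hz⟩ := ex 47 (by norm_num) (by norm_num [NB])
    exact ⟨z, hz, H954.DR.CentB.cent47 h hz⟩
  · obtain ⟨z, hz⟩ := ex 31 (by norm_num) (by norm_num [NB])
    exact ⟨z, hz, H715.Mon.Exact.B.cent31 sThree h hz⟩
  · obtain ⟨z, hz⟩ := ex 19 (by norm_num) (by norm_num [NB])
    exact ⟨z, hz, H715.Mon.Exact.B.cent19 sThree h hz⟩
  · obtain ⟨t0, ht0, hc0⟩ := exists_tr
    have key : ∃ t : S, orderOf t = 2 ∧ Nat.card (centralizer ({t} : Set S)) = 306129918735099415756800 := by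
      obtain ⟨f⟩ := h
      refine ⟨f.symm t0, by rw [MulEquiv.orderOf_eq, ht0], ?_⟩
      rw [← hc0]
      refine Nat.card_congr ⟨fun y => ⟨f y, ?_⟩, fun y => ⟨f.symm y, ?_⟩, fun y => ?_, fun y => ?_⟩
      · have h1 := mem_centralizer_singleton_iff.1 y.2
        rw [mem_centralizer_singleton_iff]
        have h2 := congrArg f h1
        rwa [map_mul, map_mul, f.apply_symm_apply] at h2
      · have h1 := mem_centralizer_singleton_iff.1 y.2
        rw [mem_centralizer_singleton_iff]
        have h2 := congrArg f.symm h1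
        rwa [map_mul, map_mul] at h2
      · exact Subtype.ext (f.symm_apply_apply _)
      · exact Subtype.ext (f.apply_symm_apply _)
    obtain ⟨t, ht, hc⟩ := key
    intro r hr
    simp only [List.mem_cons, List.not_mem_nil, or_false] at hr
    have odd : ∀ q : ℕ, q.Prime → q ≠ 2 → q ∣ 306129918735099415756800 → ∃ g g' : S, q ∣ orderOf g ∧
        q ∣ orderOf g' ∧ orderOf g ≠ orderOf g' := by
      intro q hq hq2 hqd
      obtain ⟨z, hz, hzt⟩ := two_of hq hq2 ht (by rw [hc]; exact hqd)
      refine ⟨z, z * t, by rw [hz], by rw [hzt]; exact dvd_mul_right _ _, ?_⟩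
      rw [hz, hzt]
      have := hq.pos
      omega
    rcases hr with rfl | rfl | rfl | rfl | rfl | rfl | rfl | rfl
    · obtain ⟨z, hz, hzt⟩ := two_of Nat.prime_three (by norm_num) ht (by rw [hc]; norm_num)
      refine ⟨t, z * t, by rw [ht], by rw [hzt]; norm_num, ?_⟩
      rw [ht, hzt]
      norm_num
    · exact odd 3 (by norm_num) (by norm_num) (by norm_num)
    · exact odd 5 (by norm_num) (by norm_num) (by norm_num)
    · exact odd 7 (by norm_num) (by norm_num) (by norm_num)
    · exact odd 11 (by norm_num) (by norm_num) (by norm_num)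
    · exact odd 13 (by norm_num) (by norm_num) (by norm_num)
    · exact odd 17 (by norm_num) (by norm_num) (by norm_num)
    · -- 23
      obtain ⟨z, hz⟩ := ex 23 (by norm_num) (by norm_num [NB])
      have hz' := H715.Mon.Exact.B.cent23 sThree h hz
      have : Fact (Nat.Prime 2) := ⟨Nat.prime_two⟩
      obtain ⟨w, hw⟩ := exists_prime_orderOf_dvd_card' (G := centralizer ({z} : Set S)) 2 (by rw [hz']; norm_num)
      have hw' : orderOf (w : S) = 2 := by rw [Subgroup.orderOf_coe, hw]
      have hc : Commute z (w : S) := (mem_centralizer_singleton_iff.1 w.2 : (w : S) * z = z * w).symm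
      have ho : orderOf (z * (w : S)) = 46 := by
        rw [hc.orderOf_mul_eq_mul_orderOf_of_coprime, hz, hw']
        rw [hz, hw']
        norm_num
      exact ⟨z, z * w, by rw [hz], by rw [ho]; norm_num, by rw [hz, ho]; norm_num⟩

/-- **The row of the Baby Monster.** -/
theorem _root_.Cfsg.Agent.H619.OZ.row_b {S : Type u} [Group S] [Finite S] (hs : IsSimpleGroup S) (h : Spor.IsoB S) :
    H730.OZ.Row S :=
  row_abs (NotCT.Orders.b h) (facts h)

end Cfsg.Agent.H619.OZ.B
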